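import Mathlib.RingTheory.Polynomial.Resultant.Basic
import Mathlib.FieldTheory.Finite.Basic
import Mathlib.SetTheory.Cardinal.Finite
import Mathlib.Tactic.LinearCombination
import Mathlib.Tactic.FieldSimp
import Mathlib.Algebra.BigOperators.Fin
import Mathlib.Tactic.FinCases

/-!
Counting pairs (binary quadratic form, binary form of degree `n`) over a finite field by resultant.
-/

set_option autoImplicit false

namespace K977.ResCount

open Polynomial

universe u
variable {F : Type u} [Field F]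

/-- the quadratic polynomial with coefficient vector `a` -/
noncomputable def quad (a : Fin 3 → F) : F[X] := ∑ i : Fin 3, C (a i) * X ^ (i : ℕ)

/-- the polynomial with coefficient vector `b` -/
noncomputable def pol {n : ℕ} (b : Fin n → F) : F[X] := ∑ j : Fin n, C (b j) * X ^ (j : ℕ)

theorem quad_eq (a : Fin 3 → F) : quad a = C (a 0) + C (a 1) * X + C (a 2) * X ^ 2 := by
  simp [quad, Fin.sum_univ_three]

theorem quad_natDegree_le (a : Fin 3 → F) : (quad a).natDegree ≤ 2 := by
  rw [quad_eq]; compute_degree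

theorem quad_coeff_two (a : Fin 3 → F) : (quad a).coeff 2 = a 2 := by
  rw [quad_eq]; simp

theorem pol_coeff {n : ℕ} (b : Fin n → F) (k : Fin n) : (pol b).coeff k = b k := by
  unfold pol
  rw [finsetSum_coeff, Finset.sum_eq_single k]
  · simp
  · intro j _ hj
    rw [coeff_C_mul, coeff_X_pow, if_neg, mul_zero]
    exact fun h => hj (Fin.ext h.symm)
  · simp

theorem pol_natDegree_le {n : ℕ} (b : Fin (n + 1) → F) : (pol b).natDegree ≤ n := by
  unfold pol
  refine natDegree_sum_le_of_forall_le _ _ fun j _ => ?_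
  exact (natDegree_C_mul_X_pow_le _ _).trans (by omega)

theorem pol_add {n : ℕ} (b c : Fin n → F) : pol (b + c) = pol b + pol c := by
  simp [pol, add_mul, Finset.sum_add_distrib]

theorem pol_sub {n : ℕ} (b c : Fin n → F) : pol (b - c) = pol b - pol c := by
  simp [pol, sub_mul, Finset.sum_sub_distrib]

theorem pol_single {n : ℕ} (j : Fin n) (r : F) : pol (Pi.single j r) = C r * X ^ (j : ℕ) := by
  unfold pol
  rw [Finset.sum_eq_single j]
  · simp
  · intro k _ hk
    rw [Pi.single_eq_of_ne hk]; simp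
  · simp

theorem pol_snoc {n : ℕ} (b : Fin n → F) (c : F) :
    pol (Fin.snoc b c : Fin (n + 1) → F) = pol b + C c * X ^ n := by
  unfold pol
  rw [Fin.sum_univ_castSucc]
  simp

theorem pol_cons {n : ℕ} (b : Fin n → F) (c : F) :
    pol (Fin.cons c b : Fin (n + 1) → F) = C c + X * pol b := by
  unfold pol
  rw [Fin.sum_univ_succ, Finset.mul_sum]
  simp only [Fin.cons_zero, Fin.val_zero, pow_zero, mul_one, Fin.cons_succ, Fin.val_succ, pow_succ]
  congr 1
  refine Finset.sum_congr rfl fun j _ => by ring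

/-- the correction vector in the Euclidean step -/
noncomputable def corr (a : Fin 3 → F) (k : ℕ) (c : F) : Fin (k + 2) → F :=
  Pi.single (Fin.last (k + 1)) (c / a 2 * a 1) + Pi.single (Fin.castSucc (Fin.last k)) (c / a 2 * a 0)

theorem pol_step (a : Fin 3 → F) (ha : a 2 ≠ 0) (k : ℕ) (b : Fin (k + 2) → F) (c : F) :
    pol (Fin.snoc b c : Fin (k + 3) → F) =
      pol (b - corr a k c) + quad a * (C (c / a 2) * X ^ k) := by
  rw [pol_snoc, pol_sub, corr, pol_add, pol_single, pol_single, quad_eq]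
  simp only [Fin.val_last, Fin.val_castSucc]
  have h : C c = C (c / a 2) * C (a 2) := by rw [← C_mul, div_mul_cancel₀ _ ha]
  rw [h, C_mul, C_mul]
  ring

theorem resultant_step (a : Fin 3 → F) (ha : a 2 ≠ 0) (k : ℕ) (b : Fin (k + 2) → F) (c : F) :
    resultant (quad a) (pol (Fin.snoc b c : Fin (k + 3) → F)) 2 (k + 2) =
      a 2 * resultant (quad a) (pol (b - corr a k c)) 2 (k + 1) := by
  rw [pol_step a ha, resultant_add_mul_right]
  · have := resultant_add_right_deg (quad a) (pol (b - corr a k c)) 2 (k + 1) 1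
      (pol_natDegree_le _)
    rw [quad_coeff_two, pow_one] at this
    exact this
  · have := natDegree_C_mul_X_pow_le (c / a 2) k
    omega
  · exact quad_natDegree_le a

variable [Fintype F]

omit [Fintype F] in
/-- the number of forms of degree `n` with nonzero resultant with `a` -/
noncomputable def N (n : ℕ) (a : Fin 3 → F) : ℕ :=
  Nat.card {b : Fin (n + 1) → F // resultant (quad a) (pol b) 2 n ≠ 0}

theorem N_step (a : Fin 3 → F) (ha : a 2 ≠ 0) (k : ℕ) :
    N (k + 2) a = Fintype.card F * N (k + 1) a := by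
  unfold N
  rw [← Nat.card_eq_fintype_card, ← Nat.card_prod]
  refine Nat.card_congr ⟨fun b => (b.1 (Fin.last _), ⟨Fin.init b.1 - corr a k (b.1 (Fin.last _)), ?_⟩),
    fun x => ⟨Fin.snoc (x.2.1 + corr a k x.1) x.1, ?_⟩, ?_, ?_⟩
  · have h := b.2
    rw [← Fin.snoc_init_self b.1, resultant_step a ha] at h
    exact right_ne_zero_of_mul h
  · have h := x.2.2
    rw [resultant_step a ha, add_sub_cancel_right]
    exact mul_ne_zero ha h
  · intro b
    apply Subtype.ext
    simp [Fin.snoc_init_self]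
  · intro x
    simp

theorem N_of_ne (a : Fin 3 → F) (ha : a 2 ≠ 0) (k : ℕ) :
    N (k + 1) a = Fintype.card F ^ k * N 1 a := by
  induction k with
  | zero => simp
  | succ k ih => rw [N_step a ha, ih, pow_succ]; ring

theorem card_ne_zero' : Nat.card {c : F // c ≠ 0} = Fintype.card F - 1 := by
  classical
  rw [Nat.card_eq_fintype_card, Fintype.card_subtype_compl, Fintype.card_subtype_eq]

/-- last coefficient nonzero -/
theorem card_last_ne (m : ℕ) :
    Nat.card {b : Fin (m + 1) → F // b (Fin.last m) ≠ 0} =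
      Fintype.card F ^ m * (Fintype.card F - 1) := by
  have h1 : Nat.card (Fin m → F) = Fintype.card F ^ m := by simp
  rw [← card_ne_zero', ← h1, ← Nat.card_prod]
  refine Nat.card_congr ⟨fun b => (Fin.init b.1, ⟨b.1 (Fin.last m), b.2⟩),
    fun x => ⟨Fin.snoc x.1 x.2.1, ?_⟩, ?_, ?_⟩
  · simpa using x.2.2
  · intro b
    apply Subtype.ext
    simp [Fin.snoc_init_self]
  · intro x
    simp

/-- the case of a linear form times the form at infinity -/
theorem N_of_linear (a : Fin 3 → F) (h2 : a 2 = 0) (h1 : a 1 ≠ 0) (k : ℕ) :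
    N (k + 1) a = Fintype.card F ^ k * (Fintype.card F - 1) ^ 2 := by
  have hq : quad a = C (a 1) * (X - C (-(a 0) / a 1)) := by
    rw [quad_eq, h2]
    have : C (a 0) = - (C (a 1) * C (-(a 0) / a 1)) := by
      rw [← C_mul, ← C_neg, mul_div_cancel₀ _ h1, neg_neg]
    rw [this, mul_sub]
    simp
    ring
  have hdeg : (quad a).natDegree ≤ 1 := by
    rw [quad_eq, h2]; simp; compute_degree
  have key : ∀ b : Fin (k + 2) → F, resultant (quad a) (pol b) 2 (k + 1) ≠ 0 ↔
      (b (Fin.last (k + 1)) ≠ 0 ∧ eval (-(a 0) / a 1) (pol b) ≠ 0) := by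
    intro b
    rw [resultant_succ_left_deg _ _ _ _ hdeg, hq, resultant_C_mul_left,
      resultant_X_sub_C_left _ _ _ (pol_natDegree_le b)]
    have : (pol b).coeff (k + 1) = b (Fin.last (k + 1)) := pol_coeff b (Fin.last (k + 1))
    rw [this]
    have h3 : (a 1) ^ (k + 1) ≠ 0 := pow_ne_zero _ h1
    constructor
    · intro h
      exact ⟨fun h' => h (by rw [h']; ring), fun h' => h (by rw [h']; ring)⟩
    · rintro ⟨h, h'⟩
      exact mul_ne_zero (mul_ne_zero (pow_ne_zero _ (neg_ne_zero.mpr one_ne_zero)) h)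
        (mul_ne_zero h3 h')
  unfold N
  rw [pow_two, ← mul_assoc, ← card_last_ne k, ← card_ne_zero' (F := F), ← Nat.card_prod]
  set r := -(a 0) / a 1 with hr
  refine Nat.card_congr ⟨fun b => (⟨Fin.tail b.1, ?_⟩, ⟨eval r (pol b.1), ((key _).mp b.2).2⟩),
    fun x => ⟨Fin.cons (x.2.1 - r * eval r (pol x.1.1)) x.1.1, ?_⟩, ?_, ?_⟩
  · exact ((key _).mp b.2).1
  · rw [key]
    constructor
    · have := x.1.2
      rw [← Fin.succ_last, Fin.cons_succ]
      exact this
    · rw [pol_cons]
      simpa using x.2.2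
  · intro b
    apply Subtype.ext
    have h4 : pol b.1 = C (b.1 0) + X * pol (Fin.tail b.1) := by
      rw [← pol_cons, Fin.cons_self_tail]
    simp only
    rw [h4]
    simp only [eval_add, eval_C, eval_mul, eval_X, add_sub_cancel_right]
    exact Fin.cons_self_tail b.1
  · intro x
    ext
    · simp
    · simp [pol_cons]

/-- the case of the square of the form at infinity -/
theorem N_of_const (a : Fin 3 → F) (h2 : a 2 = 0) (h1 : a 1 = 0) (h0 : a 0 ≠ 0) (n : ℕ) :
    N n a = Fintype.card F ^ n * (Fintype.card F - 1) := by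
  rw [← card_last_ne n]
  unfold N
  refine Nat.card_congr (Equiv.subtypeEquivRight fun b => ?_)
  have hq : quad a = C (a 0) := by rw [quad_eq, h2, h1]; simp
  rw [hq, resultant_C_left]
  have : (pol b).coeff n = b (Fin.last n) := pol_coeff b (Fin.last n)
  rw [this]
  constructor
  · intro h h'
    exact h (by rw [h']; ring)
  · intro h
    exact mul_ne_zero (mul_ne_zero (pow_ne_zero _ (neg_ne_zero.mpr one_ne_zero)) (pow_ne_zero _ h))
      (pow_ne_zero _ h0)

omit [Fintype F] in
theorem N_of_zero (a : Fin 3 → F) (h2 : a 2 = 0) (h1 : a 1 = 0) (h0 : a 0 = 0) (k : ℕ) :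
    N (k + 1) a = 0 := by
  unfold N
  have hq : quad a = 0 := by rw [quad_eq, h2, h1, h0]; simp
  rw [hq]
  have : IsEmpty {b : Fin (k + 1 + 1) → F // resultant (0 : F[X]) (pol b) 2 (k + 1) ≠ 0} :=
    ⟨fun b => b.2 (by rw [resultant_zero_left]; simp)⟩
  exact Nat.card_of_isEmpty

omit [Fintype F] in
/-- The quadratic form computing the resultant with a linear form. -/
theorem resultant_linear (a : Fin 3 → F) (b : Fin 2 → F) :
    resultant (quad a) (pol b) 2 1 =
      a 0 * b 1 ^ 2 - a 1 * b 0 * b 1 + a 2 * b 0 ^ 2 := by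
  by_cases h : b 1 = 0
  · have : pol b = C (b 0) := by
      unfold pol
      rw [Fin.sum_univ_two]
      simp [h]
    rw [this, resultant_C_right, quad_coeff_two, h]
    ring
  · have : pol b = C (b 1) * (X - C (-(b 0) / b 1)) := by
      unfold pol
      rw [Fin.sum_univ_two]
      have h3 : C (b 0) = - (C (b 1) * C (-(b 0) / b 1)) := by
        rw [← C_mul, ← C_neg, mul_div_cancel₀ _ h, neg_neg]
      simp only [Fin.val_zero, pow_zero, mul_one, Fin.val_one, pow_one]
      rw [h3, mul_sub]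
      ring
    rw [this, resultant_C_mul_right, resultant_X_sub_C_right _ _ _ (quad_natDegree_le a), quad_eq]
    simp only [eval_add, eval_C, eval_mul, eval_X, eval_pow]
    field_simp
    ring

/-- For fixed `a 1` and `a 2 ≠ 0`, counting `(a 0, b)`. -/
theorem sum_N_one (a1 a2 : F) (h2 : a2 ≠ 0) :
    (∑ a0 : F, N 1 ![a0, a1, a2]) + Fintype.card F ^ 2 = Fintype.card F ^ 3 := by
  classical
  have h1 : ∑ a0 : F, N 1 ![a0, a1, a2] = Nat.card {x : F × (Fin 2 → F) //
      x.1 * x.2 1 ^ 2 - a1 * x.2 0 * x.2 1 + a2 * x.2 0 ^ 2 ≠ 0} := by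
    unfold N
    rw [← Nat.card_sigma]
    refine Nat.card_congr ⟨fun x => ⟨(x.1, x.2.1), ?_⟩, fun x => ⟨x.1.1, ⟨x.1.2, ?_⟩⟩, ?_, ?_⟩
    · have := x.2.2
      rw [resultant_linear] at this
      simpa using this
    · have := x.2
      rw [resultant_linear]
      simpa using this
    · intro x; rfl
    · intro x; rfl
  have h3 : Nat.card {x : F × (Fin 2 → F) //
      x.1 * x.2 1 ^ 2 - a1 * x.2 0 * x.2 1 + a2 * x.2 0 ^ 2 = 0} = Fintype.card F ^ 2 := by
    rw [pow_two, ← Nat.card_eq_fintype_card, ← Nat.card_prod]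
    refine Nat.card_congr ⟨fun x => if x.1.2 1 = 0 then (x.1.1, 0) else (x.1.2 0, x.1.2 1),
      fun y => if h : y.2 = 0 then ⟨(y.1, ![0, 0]), by simp⟩ else
        ⟨((a1 * y.1 * y.2 - a2 * y.1 ^ 2) / y.2 ^ 2, ![y.1, y.2]), by simp; field_simp; ring⟩, ?_, ?_⟩
    · rintro ⟨⟨x, b⟩, hx⟩
      by_cases h : b 1 = 0
      · simp only [h] at hx ⊢
        have h0 : b 0 = 0 := by
          have : a2 * b 0 ^ 2 = 0 := by linear_combination hx
          exact pow_eq_zero_iff (two_ne_zero) |>.mp ((mul_eq_zero.mp this).resolve_left h2)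
        simp only [if_true, dif_pos]
        ext i
        · rfl
        · fin_cases i
          · simp [h0]
          · simp [h]
      · simp only [h, if_false, dite_false]
        simp only at hx
        ext i
        · simp only
          rw [div_eq_iff (pow_ne_zero _ h)]
          linear_combination -hx
        · fin_cases i <;> rfl
    · rintro ⟨y1, y2⟩
      by_cases h : y2 = 0
      · simp [h]
      · simp [h]
  have h4 : Nat.card (F × (Fin 2 → F)) = Fintype.card F ^ 3 := by
    rw [Nat.card_prod]; simp; ring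
  rw [h1, ← h3, ← h4, ← Nat.card_congr (Equiv.sumCompl (fun x : F × (Fin 2 → F) =>
    x.1 * x.2 1 ^ 2 - a1 * x.2 0 * x.2 1 + a2 * x.2 0 ^ 2 = 0)), Nat.card_sum, add_comm]

/-- coordinates -/
def tri : F × F × F ≃ (Fin 3 → F) where
  toFun x := ![x.2.2, x.2.1, x.1]
  invFun a := (a 2, a 1, a 0)
  left_inv x := rfl
  right_inv a := by ext i; fin_cases i <;> rfl

theorem sum_N (k : ℕ) : ∑ a : Fin 3 → F, N (k + 1) a =
    Fintype.card F ^ (k + 2) * (Fintype.card F - 1) ^ 2 * (Fintype.card F + 1) := by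
  classical
  obtain ⟨s, hs⟩ : ∃ s, Fintype.card F = s + 1 := ⟨Fintype.card F - 1, by
    have := Fintype.card_pos (α := F); omega⟩
  have e0 : (Finset.univ.erase (0 : F)).card = s := by
    rw [Finset.card_erase_of_mem (Finset.mem_univ _), Finset.card_univ, hs]; rfl
  rw [← Equiv.sum_comp tri, Fintype.sum_prod_type]
  simp only [Fintype.sum_prod_type]
  rw [← Finset.add_sum_erase _ _ (Finset.mem_univ (0 : F))]
  have p1 : ∑ x1 : F, ∑ x0 : F, N (k + 1) (tri (0, x1, x0)) =
      (s + 1) ^ (k + 1) * s ^ 2 * (s + 1) := by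
    rw [← Finset.add_sum_erase _ _ (Finset.mem_univ (0 : F))]
    have q1 : ∑ x0 : F, N (k + 1) (tri (0, 0, x0)) = s * ((s + 1) ^ (k + 1) * s) := by
      rw [← Finset.add_sum_erase _ _ (Finset.mem_univ (0 : F)),
        N_of_zero (tri ((0 : F), 0, 0)) rfl rfl rfl, zero_add,
        Finset.sum_congr rfl (g := fun _ => (s + 1) ^ (k + 1) * s), Finset.sum_const, e0, smul_eq_mul]
      intro x hx
      rw [N_of_const (tri ((0 : F), 0, x)) rfl rfl (Finset.ne_of_mem_erase hx), hs]
      rfl
    have q2 : ∑ x1 ∈ Finset.univ.erase (0 : F), ∑ x0 : F, N (k + 1) (tri (0, x1, x0)) =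
        s * ((s + 1) * ((s + 1) ^ k * s ^ 2)) := by
      rw [Finset.sum_congr rfl (g := fun _ => (s + 1) * ((s + 1) ^ k * s ^ 2)), Finset.sum_const, e0,
        smul_eq_mul]
      intro x hx
      rw [Finset.sum_congr rfl (g := fun _ => ((s + 1) ^ k * s ^ 2)), Finset.sum_const,
        Finset.card_univ, hs, smul_eq_mul]
      intro y _
      rw [N_of_linear (tri ((0 : F), x, y)) rfl (Finset.ne_of_mem_erase hx), hs]
      rfl
    rw [q1, q2]
    ring
  have p2 : ∑ x2 ∈ Finset.univ.erase (0 : F), ∑ x1 : F, ∑ x0 : F, N (k + 1) (tri (x2, x1, x0)) =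
      s * ((s + 1) * ((s + 1) ^ k * ((s + 1) ^ 2 * s))) := by
    rw [Finset.sum_congr rfl (g := fun _ => (s + 1) * ((s + 1) ^ k * ((s + 1) ^ 2 * s))),
      Finset.sum_const, e0, smul_eq_mul]
    intro x hx
    have hx' : x ≠ 0 := Finset.ne_of_mem_erase hx
    rw [Finset.sum_congr rfl (g := fun _ => ((s + 1) ^ k * ((s + 1) ^ 2 * s))), Finset.sum_const,
        Finset.card_univ, hs, smul_eq_mul]
    intro y _
    rw [Finset.sum_congr rfl (g := fun z => (s + 1) ^ k * N 1 ![z, y, x]), ← Finset.mul_sum]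
    · congr 1
      have := sum_N_one y x hx'
      rw [hs] at this
      have h5 : (s + 1) ^ 3 = (s + 1) ^ 2 * s + (s + 1) ^ 2 := by ring
      omega
    · intro z _
      rw [N_of_ne (tri (x, y, z)) hx', hs]
      rfl
  rw [p1, p2, hs, Nat.add_sub_cancel]
  ring

end K977.ResCount
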